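import Groth.Prelude.Def_LocCohZ
import Groth.Agent.SuppFamLib.Derived
import Groth.Agent.SpObjSS.SiteLeray
import Groth.Agent.SiteBase.Top
import Groth.Agent.SiteBase.LerayTop
import Groth.Agent.S13590

/-!
# Spectral sequences abutting to cohomology with supports on a topological space
-/

set_option autoImplicit false

universe u

open CategoryTheory CategoryTheory.Limits Opposite TopologicalSpace
open Groth.Agent.SiteBase Groth.Agent.SpObjSS Groth.Agent.TriCat

noncomputable section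

namespace Groth.Agent.LocCohSS

variable {X : TopCat.{u}}

local notation "JX" => Opens.grothendieckTopology X

/-- Maps out of `ℤ_V/ℤ_W` are the sections over `V` vanishing on `W`. -/
def homZqEquiv (G : CohTop.Ab X) {W V : Opens X} (h : W ≤ V) :
    (LocCohZ.zq h ⟶ G) ≃+ LocCohZ.sectZ G h :=
  Abelian.Ext.addEquiv₀.symm.trans (LocCohZ.sect0Equiv G h)

lemma homZqEquiv_coe (G : CohTop.Ab X) {W V : Opens X} (h : W ≤ V) (φ : LocCohZ.zq h ⟶ G) :
    (homZqEquiv G h φ : G.obj.obj (op V)) =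
      CohFree.evalGen JX V G (cokernel.π _ ≫ φ) := by
  show CohFree.evalGen JX V G (cokernel.π _ ≫ Abelian.Ext.addEquiv₀ (Abelian.Ext.addEquiv₀.symm φ)) = _
  rw [AddEquiv.apply_symm_apply]

lemma homZqEquiv_natural {G G' : CohTop.Ab X} (g : G ⟶ G') {W V : Opens X} (h : W ≤ V)
    (φ : LocCohZ.zq h ⟶ G) :
    (homZqEquiv G' h (φ ≫ g) : G'.obj.obj (op V)) =
      (g.hom.app (op V)).hom (homZqEquiv G h φ : G.obj.obj (op V)) := by
  rw [homZqEquiv_coe, homZqEquiv_coe]
  rfl

/-- A map out of `ℤ_X` is killed by `F ⟶ j_*j⁻¹F` iff it kills `ℤ_U`. -/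
lemma comp_unit_eq_zero_iff (U : Opens X) (F : CohTop.Ab X) (g : CohCx.freeSheaf JX ⊤ ⟶ F) :
    g ≫ (TopCat.Sheaf.pullbackPushforwardAdjunction AddCommGrpCat.{u} (CohCx.incl U)).unit.app F = 0 ↔
      CohCx.freeSheafMap JX (homOfLE (le_top : U ≤ ⊤)) ≫ g = 0 := by
  let η := (TopCat.Sheaf.pullbackPushforwardAdjunction AddCommGrpCat.{u} (CohCx.incl U)).unit.app F
  let s := CohFree.evalGen JX ⊤ F g
  have h1 : g ≫ η = 0 ↔ ((η.hom.app (op ⊤)).hom s = 0) := by
    constructor
    · intro h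
      have := congrArg (CohFree.evalGen JX ⊤ _) h
      rw [map_zero] at this
      exact this
    · intro h
      apply (CohFree.homEquivSect JX ⊤ _).injective
      rw [map_zero, CohFree.homEquivSect_apply]
      exact h
  have h2 : CohCx.freeSheafMap JX (homOfLE (le_top : U ≤ ⊤)) ≫ g = 0 ↔
      F.obj.map (homOfLE (le_top : U ≤ ⊤)).op s = 0 := by
    constructor
    · intro h
      have := congrArg (CohFree.evalGen JX U F) h
      rw [map_zero, CohFree.evalGen_freeSheafMap_comp] at this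
      exact this
    · intro h
      apply (CohFree.homEquivSect JX U _).injective
      rw [map_zero, CohFree.homEquivSect_apply, CohFree.evalGen_freeSheafMap_comp]
      exact h
  refine h1.trans ((SuppFamLib.unit_app_eq_zero_iff U F ⊤ s).trans (Iff.trans ?_ h2.symm))
  have e : F.obj.map (homOfLE (inf_le_right : U ⊓ ⊤ ≤ ⊤)).op s =
      F.obj.map (homOfLE (inf_le_left : U ⊓ ⊤ ≤ U)).op (F.obj.map (homOfLE (le_top : U ≤ ⊤)).op s) :=
    (SuppFamLib.res_res F _ _ s).symm
  rw [e]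
  exact SuppFamLib.res_eq_zero_iff F _ (le_inf le_rfl le_top) _

/-- `Hom(ℤ_X, Γ_Z F) = Hom(ℤ_X/ℤ_U, F)`. -/
def homSectSuppEquiv (U : Opens X) (F : CohTop.Ab X) :
    (CohCx.freeSheaf JX ⊤ ⟶ CohCx.sectSupp U F) ≃+ (LocCohZ.zq (le_top : U ≤ ⊤) ⟶ F) where
  toFun ψ := cokernel.desc _ (ψ ≫ kernel.ι _) ((comp_unit_eq_zero_iff U F _).1 (by
    rw [Category.assoc, kernel.condition, comp_zero]))
  invFun φ := kernel.lift _ (cokernel.π _ ≫ φ) ((comp_unit_eq_zero_iff U F _).2 (by
    rw [cokernel.condition_assoc, zero_comp]))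
  left_inv ψ := by
    apply (cancel_mono (kernel.ι _)).1
    rw [kernel.lift_ι, cokernel.π_desc]
  right_inv φ := by
    apply (cancel_epi (cokernel.π _)).1
    rw [cokernel.π_desc, kernel.lift_ι]
  map_add' ψ ψ' := by
    apply (cancel_epi (cokernel.π _)).1
    rw [Preadditive.comp_add, cokernel.π_desc, cokernel.π_desc, cokernel.π_desc, Preadditive.add_comp]

/-- `Γ_Z(X, -) = Hom(ℤ_X, Γ_Z -)`. -/
def homSectSuppIso (U : Opens X) :
    LocCohZ.sectSuppF U ⋙ homFrom (CohCx.freeSheaf JX ⊤) ≅ homFrom (LocCohZ.zq (le_top : U ≤ ⊤)) :=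
  NatIso.ofComponents (fun F => (homSectSuppEquiv U F).toAddCommGrpIso) fun {F G} g => by
    ext (ψ : CohCx.freeSheaf JX ⊤ ⟶ CohCx.sectSupp U F)
    show homSectSuppEquiv U G (ψ ≫ (LocCohZ.sectSuppF U).map g) = homSectSuppEquiv U F ψ ≫ g
    apply (cancel_epi (cokernel.π _)).1
    refine (cokernel.π_desc _ _ _).trans ?_
    refine Eq.trans ?_ (Category.assoc _ _ _)
    refine Eq.trans ?_ (congrArg (· ≫ g) (cokernel.π_desc _ _ _)).symm
    rw [Category.assoc, Category.assoc]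
    exact congrArg (ψ ≫ ·) (kernel.lift_ι _ _ _)

/-- `Γ_{Y'}(Y, f_* -) = Γ_{X'}(X, -)`. -/
def homPushIso {Y : TopCat.{u}} (f : X ⟶ Y) (V : Opens Y) :
    CohTop.push f ⋙ homFrom (LocCohZ.zq (le_top : V ≤ ⊤)) ≅
      homFrom (LocCohZ.zq (le_top : (Opens.map f).obj V ≤ ⊤)) :=
  NatIso.ofComponents
    (fun F => (((homZqEquiv ((CohTop.push f).obj F) (le_top : V ≤ ⊤)).trans
      (AddEquiv.refl (LocCohZ.sectZ F (le_top : (Opens.map f).obj V ≤ ⊤)))).trans
        (homZqEquiv F (le_top : (Opens.map f).obj V ≤ ⊤)).symm).toAddCommGrpIso) fun {F G} g => by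
    ext φ
    apply (homZqEquiv G (le_top : (Opens.map f).obj V ≤ ⊤)).injective
    refine (AddEquiv.apply_symm_apply _ _).trans (Subtype.ext ?_)
    refine Eq.trans ?_ (homZqEquiv_natural g _ _).symm
    refine Eq.trans ?_ (congrArg (fun t => (g.hom.app (op ⊤)).hom (Subtype.val t))
      (AddEquiv.apply_symm_apply _ _)).symm
    exact homZqEquiv_natural ((CohTop.push f).map g) _ _

/-- The local-to-global spectral sequence of cohomology with supports. -/
theorem exists_ss_sectSupp (F : CohTop.Ab X) (U : Opens X) :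
    ∃ (E : E₂CohomologicalSpectralSequence AddCommGrpCat.{u})
      (a : SpSeq.Abutment E (fun n : ℤ =>
        if 0 ≤ n then AddCommGrpCat.of (LocCohZ.HZc F n.toNat U) else AddCommGrpCat.of PUnit.{u + 1})),
      (∀ n : ℤ, a.IsFinite n) ∧ SpSeq.IsBounded E ∧
      ∀ p q : ℤ, Nonempty ((E.page 2 le_rfl).X (p, q) ≅
        (if 0 ≤ p ∧ 0 ≤ q then AddCommGrpCat.of (CohTop.HU ((LocCohZ.HZsh U q.toNat).obj F) p.toNat ⊤)
          else AddCommGrpCat.of PUnit.{u + 1})) :=
  exists_grothendieck_spectralSequence' (LocCohZ.sectSuppF U) (homFrom (CohCx.freeSheaf JX ⊤))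
    (fun Q hQ => have : Injective ((LocCohZ.sectSuppF U).obj Q) := S13590.injective_sectSupp U Q
      isRightAcyclic_of_injective _) F
    (fun n => AddCommGrpCat.of (LocCohZ.HZc F n U))
    (fun n => ⟨(rightDerivedCongr (homSectSuppIso U) n).app F ≪≫ rightDerivedHomFromIso _ n F⟩)
    (fun p q => AddCommGrpCat.of (CohTop.HU ((LocCohZ.HZsh U q).obj F) p ⊤))
    (fun p q => ⟨rightDerivedHomFromIso _ p _⟩)
    _ (AddCommGrpCat.isZero_of_subsingleton _)

/-- The Leray spectral sequence with supports. -/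
theorem exists_ss_push {Y : TopCat.{u}} (f : X ⟶ Y) (V : Opens Y) (F : CohTop.Ab X) :
    ∃ (E : E₂CohomologicalSpectralSequence AddCommGrpCat.{u})
      (a : SpSeq.Abutment E (fun n : ℤ =>
        if 0 ≤ n then AddCommGrpCat.of (LocCohZ.HZc F n.toNat ((Opens.map f).obj V))
          else AddCommGrpCat.of PUnit.{u + 1})),
      (∀ n : ℤ, a.IsFinite n) ∧ SpSeq.IsBounded E ∧
      ∀ p q : ℤ, Nonempty ((E.page 2 le_rfl).X (p, q) ≅
        (if 0 ≤ p ∧ 0 ≤ q then AddCommGrpCat.of (LocCohZ.HZc ((CohTop.Rpush f q.toNat).obj F) p.toNat V)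
          else AddCommGrpCat.of PUnit.{u + 1})) :=
  exists_grothendieck_spectralSequence' (CohTop.push f) (homFrom (LocCohZ.zq (le_top : V ≤ ⊤)))
    (fun Q hQ => have : Injective ((CohTop.push f).obj Q) := SiteBase.injective_push f Q
      isRightAcyclic_of_injective _) F
    (fun n => AddCommGrpCat.of (LocCohZ.HZc F n ((Opens.map f).obj V)))
    (fun n => ⟨(rightDerivedCongr (homPushIso f V) n).app F ≪≫ rightDerivedHomFromIso _ n F⟩)
    (fun p q => AddCommGrpCat.of (LocCohZ.HZc ((CohTop.Rpush f q).obj F) p V))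
    (fun p q => ⟨rightDerivedHomFromIso _ p _⟩)
    _ (AddCommGrpCat.isZero_of_subsingleton _)

end Groth.Agent.LocCohSS

end
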