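import Groth.Prelude.Def_LocCohZ
import Groth.Agent.SiteBase.DerivedKernel
import Groth.Agent.SiteBase.DerivedPrecomp
import Groth.Agent.SiteBase.SuppInj
import Groth.Agent.SiteBase.ExtByZero
import Groth.Agent.SiteBase.Top
import Groth.Agent.SiteBase.Rpush
import Groth.Agent.SuppFamLib.Derived

/-!
# Sections with supports as the kernel of the unit

The functor `Γ_A` on abelian sheaves of a space is the kernel of `1 ⟶ f_* f⁻¹`, which is epi on flasque sheaves.
-/

set_option autoImplicit false
set_option linter.style.haveILetI false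
set_option backward.isDefEq.respectTransparency false

universe u

open CategoryTheory CategoryTheory.Limits Opposite TopologicalSpace TopCat Topology

noncomputable section

namespace Groth.Agent.LocCohSS

variable {X : TopCat.{u}} (U : Opens X)

/-- The inclusion `Γ_A ⟶ 1`. -/
def sectSuppι : LocCohZ.sectSuppF U ⟶ 𝟭 (CohTop.Ab X) where
  app F := kernel.ι _
  naturality F G g := kernel.lift_ι _ _ _

/-- The inverse image along an open inclusion is the restriction. -/
def pullInclIso : CohTop.pull (CohCx.incl U) ≅ CohTop.restrFunctor U :=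
  (U.isOpenEmbedding : IsOpenEmbedding (CohCx.incl U)).sheafPullbackIso AddCommGrpCat.{u}

theorem preservesInjectiveObjects_pull_incl : (CohTop.pull (CohCx.incl U)).PreservesInjectiveObjects := by
  haveI := Groth.Agent.ExtByZero.preservesFiniteLimits_ext0 U
  exact ⟨fun {I} hI => Injective.of_iso ((pullInclIso U).app I).symm
    ((Groth.Agent.ExtByZero.adj U).map_injective I hI)⟩

/-- On a flasque sheaf the unit `F ⟶ f_* f⁻¹ F` is an epimorphism. -/
theorem epi_unit_of_isFlasque (F : CohTop.Ab X) [hF : TopCat.Sheaf.IsFlasque F] :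
    Epi ((TopCat.Sheaf.pullbackPushforwardAdjunction AddCommGrpCat.{u} (CohCx.incl U)).unit.app F) := by
  let η := (TopCat.Sheaf.pullbackPushforwardAdjunction AddCommGrpCat.{u} (CohCx.incl U)).unit.app F
  let H := (TopCat.Sheaf.pullback AddCommGrpCat.{u} (CohCx.incl U)).obj F
  have hs : ∀ W : Opens X, Function.Surjective (η.hom.app (op W)).hom := by
    intro W t
    haveI : ∀ x : (U ⊓ W : Opens X),
        IsIso ((TopCat.Presheaf.stalkFunctor AddCommGrpCat.{u} x.val).map η.hom) :=
      fun x => ClosedEmb.isIso_stalk_unit (U.isOpenEmbedding.isInducing : IsInducing (CohCx.incl U)) F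
        ⟨x.val, x.2.1⟩
    haveI := TopCat.Presheaf.app_isIso_of_stalkFunctor_map_iso η (U ⊓ W)
    obtain ⟨s', hs'⟩ := (ConcreteCategory.bijective_of_isIso (η.hom.app (op (U ⊓ W)))).2
      (((TopCat.Sheaf.pushforward AddCommGrpCat.{u} (CohCx.incl U)).obj H).obj.map
        (homOfLE (inf_le_right : U ⊓ W ≤ W)).op t)
    obtain ⟨s, rfl⟩ := (AddCommGrpCat.epi_iff_surjective _).1 (hF.epi (homOfLE (inf_le_right : U ⊓ W ≤ W)).op) s'
    refine ⟨s, ?_⟩
    have nat := ConcreteCategory.congr_hom (η.hom.naturality (homOfLE (inf_le_right : U ⊓ W ≤ W)).op) s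
    have heq := nat.symm.trans hs'
    have hz := (map_sub (((TopCat.Sheaf.pushforward AddCommGrpCat.{u} (CohCx.incl U)).obj H).obj.map
      (homOfLE (inf_le_right : U ⊓ W ≤ W)).op).hom _ _).trans (sub_eq_zero.2 heq)
    refine sub_eq_zero.1 ?_
    exact (SuppFamLib.res_eq_zero_iff H
      (show (Opens.map (CohCx.incl U)).obj (U ⊓ W) ≤ (Opens.map (CohCx.incl U)).obj W from fun y hy => hy.2)
      (fun y hy => ⟨y.2, hy⟩) _).1 hz
  haveI : ∀ W, Epi (η.hom.app W) := fun W => (AddCommGrpCat.epi_iff_surjective _).2 (hs W.unop)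
  haveI : Epi η.hom := NatTrans.epi_of_epi_app _
  exact (sheafToPresheaf (Opens.grothendieckTopology X) AddCommGrpCat.{u}).epi_of_epi_map
    (show Epi η.hom from inferInstance)

instance additive_pull_incl : (CohTop.pull (CohCx.incl U)).Additive :=
  haveI : PreservesFiniteLimits (CohTop.pull (CohCx.incl U)) := SiteBase.preservesFiniteLimits_pull _
  Functor.additive_of_preserves_binary_products _

instance preservesFiniteLimits_push_incl : PreservesFiniteLimits (CohTop.push (CohCx.incl U)) :=
  haveI := (ClosedEmb.pAdj (CohCx.incl U)).rightAdjoint_preservesLimits.{0, 0}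
  ⟨fun _ => inferInstance⟩

instance additive_push_incl : (CohTop.push (CohCx.incl U)).Additive :=
  Functor.additive_of_preserves_binary_products _

instance preservesFiniteColimits_pull_incl : PreservesFiniteColimits (CohTop.pull (CohCx.incl U)) :=
  haveI := (ClosedEmb.pAdj (CohCx.incl U)).leftAdjoint_preservesColimits.{0, 0}
  ⟨fun _ => inferInstance⟩

theorem preservesFiniteLimits_sectSuppF : PreservesFiniteLimits (LocCohZ.sectSuppF U) := by
  haveI : PreservesFiniteLimits (CohTop.pull (CohCx.incl U)) := SiteBase.preservesFiniteLimits_pull _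
  haveI : PreservesFiniteLimits (CohTop.pull (CohCx.incl U) ⋙ CohTop.push (CohCx.incl U)) :=
    comp_preservesFiniteLimits _ _
  refine (Functor.preservesFiniteLimits_iff_forall_exact_map_and_mono _).2 fun S hS => ?_
  let D := SiteBase.snake (P := CohTop.pull (CohCx.incl U) ⋙ CohTop.push (CohCx.incl U)) (sectSuppι U)
    (ClosedEmb.pAdj (CohCx.incl U)).unit
    (fun _ => kernel.condition _) (fun _ => kernelIsKernel _) hS
  haveI : Mono D.L₁.f := hS.mono_f
  exact ⟨D.L₀_exact, D.mono_L₀_f⟩

end Groth.Agent.LocCohSS
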